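import Cfsg.Agent.Lib.Recog.BitPerm.Orbit
import Cfsg.Agent.Lib.Recog.SporBound.Presented

set_option autoImplicit false

/-!
The action of a presented group through checked networks (owner: helper21).
-/

namespace CfsgLib.Recog.BitPerm

open Cfsg CfsgLib.ThreeTrans.CosetIndex CfsgLib.Recog.SporBound

variable {α : Type} [DecidableEq α] (edges : List (α × ℕ × α)) (extra : List (FreeGroup α)) (gens : List α)

/-- The networks realise the relators. -/
structure Acts (B : ℕ) (net : ℕ → List Stage) : Prop where
  valid : Valid B net
  nodup : gens.Nodup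
  big : ∀ x, gens.length ≤ x → net x = []
  sq : ∀ x, x < gens.length → idOK B net [x, x] = true
  rels : ∀ w ∈ relWords edges extra gens, idOK B net w = true

variable {edges extra gens} {B : ℕ} {net : ℕ → List Stage} (hA : Acts edges extra gens B net)
include hA

theorem netPerm_sq (x : ℕ) : netPerm (net x) * netPerm (net x) = 1 := by
  by_cases hx : x < gens.length
  · simpa [wordPerm] using wordPerm_eq_one hA.valid (hA.sq x hx)
  · rw [hA.big x (by omega)]; rfl

/-- The action. -/
noncomputable def action : Spor.CoxPresented α edges extra →* Equiv.Perm ℕ :=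
  PresentedGroup.toGroup (f := fun y => netPerm (net (gens.idxOf y))) (by
    intro r hr
    rw [hom_eq_prod gens _ (fun x => netPerm (net x)) (fun y => FreeGroup.lift_apply_of) (netPerm_sq hA)]
    refine wordPerm_eq_one hA.valid (hA.rels _ ?_)
    rw [relWords, List.mem_append]
    rcases hr with ⟨x, hx, y, hy, rfl⟩ | hr
    · exact Or.inl (List.mem_flatMap.2 ⟨x, hx, List.mem_map.2 ⟨y, hy, rfl⟩⟩)
    · exact Or.inr (List.mem_map.2 ⟨r, hr, rfl⟩))

theorem action_gen (x : ℕ) : action hA (gen edges extra gens x) = netPerm (net x) := by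
  unfold gen
  by_cases hx : x < gens.length
  · rw [List.getElem?_eq_getElem hx]
    show action hA (PresentedGroup.of gens[x]) = _
    rw [action, PresentedGroup.toGroup.of, hA.nodup.idxOf_getElem _ hx]
  · rw [List.getElem?_eq_none (by omega), hA.big x (by omega)]
    exact map_one _

/-- The element of a word. -/
theorem action_word (w : List ℕ) : action hA (w.map (gen edges extra gens)).prod = wordPerm net w := by
  rw [map_list_prod, List.map_map, wordPerm]
  congr 1
  exact List.map_congr_left fun x _ => action_gen hA x

theorem wordPerm_mem_range (w : List ℕ) : wordPerm net w ∈ (action hA).range := ⟨_, action_word hA w⟩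

theorem action_fix (g : Spor.CoxPresented α edges extra) (hgens : ∀ y : α, y ∈ Spor.coxNodes edges) :
    ∀ {i : ℕ}, 2 ^ B ≤ i → action hA g i = i := by
  intro i hi
  have hg : g ∈ (⊤ : Subgroup _) := Subgroup.mem_top g
  rw [← PresentedGroup.closure_range_of] at hg
  induction hg using Subgroup.closure_induction with
  | mem g hg =>
    obtain ⟨y, rfl⟩ := hg
    rw [action, PresentedGroup.toGroup.of]
    exact netPerm_fix (hA.valid.ok _) hi
  | one => rw [map_one]; rfl
  | mul g g' _ _ i1 i2 => rw [map_mul, Equiv.Perm.mul_apply, i2, i1]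
  | inv g _ i1 => rw [map_inv, Equiv.Perm.inv_eq_iff_eq]; exact i1.symm

/-- A subgroup generated by letters keeps a closed set. -/
theorem action_closed {L : List ℕ} {S : ℕ} (h : closedOK net (L.map fun x => [x]) S = true)
    {g : Spor.CoxPresented α edges extra} (hg : g ∈ letterSub edges extra gens L) (i : ℕ) :
    S.testBit (action hA g i) = S.testBit i := by
  refine closed_bits hA.valid h ?_ i
  have : (letterSub edges extra gens L).map (action hA) =
      Subgroup.closure {p | ∃ w ∈ L.map (fun x => [x]), p = wordPerm net w} := by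
    rw [letterSub, MonoidHom.map_closure]
    congr 1
    ext p
    simp only [Set.mem_image, List.mem_map]
    constructor
    · rintro ⟨_, ⟨x, hx, rfl⟩, rfl⟩
      exact ⟨_, ⟨x, hx, rfl⟩, by rw [action_gen, wordPerm]; simp⟩
    · rintro ⟨_, ⟨x, hx, rfl⟩, rfl⟩
      exact ⟨_, ⟨x, hx, rfl⟩, by rw [action_gen, wordPerm]; simp⟩
  exact this ▸ Subgroup.mem_map_of_mem _ hg

end CfsgLib.Recog.BitPerm
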