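import Cfsg.Agent.Lib.ThreeTrans.CosetIndex.Presented

set_option autoImplicit false

/-!
Permutations given as networks of delta swaps, acting on bit sets held in natural numbers (owner: helper21).

A stage `(m, s)` exchanges the bits `i` and `i + s` for the bits `i` of the mask `m`; applying a permutation to
all points at once takes a few bit operations.
-/

namespace CfsgLib.Recog.BitPerm

open CfsgLib.ThreeTrans.CosetIndex (forallFrom forallFrom_elim)

/-- One stage: mask and shift. -/
abbrev Stage := ℕ × ℕ

/-- Applying a stage to a bit set. -/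
noncomputable def stage (st : Stage) (X : ℕ) : ℕ :=
  Nat.xor (Nat.xor X (Nat.land (Nat.xor (Nat.shiftRight X st.2) X) st.1))
    (Nat.shiftLeft (Nat.land (Nat.xor (Nat.shiftRight X st.2) X) st.1) st.2)

/-- Applying stages in order. -/
noncomputable def run (L : List Stage) (X : ℕ) : ℕ :=
  List.rec (motive := fun _ => ℕ → ℕ) (fun X => X) (fun st _ ih X => ih (stage st X)) L X

/-- Applying the networks of a word in order. -/
noncomputable def runWord (net : ℕ → List Stage) (w : List ℕ) (X : ℕ) : ℕ :=
  List.rec (motive := fun _ => ℕ → ℕ) (fun X => X) (fun x _ ih X => ih (run (net x) X)) w X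

/-- Where a bit of the image comes from. -/
def move (st : Stage) (i : ℕ) : ℕ :=
  if st.1.testBit i then i + st.2 else if st.2 ≤ i ∧ st.1.testBit (i - st.2) then i - st.2 else i

/-- The pairs of a stage are disjoint and below `2 ^ B`. -/
noncomputable def stageOK (B : ℕ) (st : Stage) : Bool :=
  Nat.beq (Nat.land st.1 (Nat.shiftLeft st.1 st.2)) 0 && Nat.beq (Nat.shiftRight (Nat.shiftLeft st.1 st.2) (2 ^ B)) 0

theorem stageOK_spec {B : ℕ} {st : Stage} (h : stageOK B st = true) :
    (∀ i, st.1.testBit i = true → st.1.testBit (i + st.2) = false) ∧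
      (∀ i, st.1.testBit i = true → i + st.2 < 2 ^ B) := by
  simp only [stageOK, Bool.and_eq_true, Nat.beq_eq] at h
  constructor
  · intro i hi
    have := congrArg (fun n => n.testBit (i + st.2)) h.1
    change (st.1 &&& st.1 <<< st.2).testBit (i + st.2) = (0 : ℕ).testBit _ at this
    rw [Nat.testBit_and, Nat.testBit_shiftLeft, Nat.add_sub_cancel, hi, Nat.zero_testBit] at this
    simpa using this
  · intro i hi
    by_contra hlt
    have := congrArg (fun n => n.testBit (i + st.2 - 2 ^ B)) h.2
    change ((st.1 <<< st.2) >>> (2 ^ B)).testBit (i + st.2 - 2 ^ B) = (0 : ℕ).testBit _ at this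
    rw [Nat.testBit_shiftRight, Nat.testBit_shiftLeft, show 2 ^ B + (i + st.2 - 2 ^ B) = i + st.2 by omega,
      Nat.add_sub_cancel, hi, Nat.zero_testBit] at this
    simp at this

theorem move_move {B : ℕ} {st : Stage} (h : stageOK B st = true) (i : ℕ) : move st (move st i) = i := by
  obtain ⟨h1, -⟩ := stageOK_spec h
  by_cases hi : st.1.testBit i = true
  · have e : move st i = i + st.2 := by rw [move, if_pos hi]
    rw [e, move, if_neg (by rw [h1 i hi]; simp), if_pos ⟨by omega, by rw [Nat.add_sub_cancel]; exact hi⟩]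
    omega
  by_cases hi2 : st.2 ≤ i ∧ st.1.testBit (i - st.2) = true
  · have e : move st i = i - st.2 := by rw [move, if_neg hi, if_pos hi2]
    rw [e, move, if_pos hi2.2]
    omega
  have e : move st i = i := by rw [move, if_neg hi, if_neg hi2]
  rw [e, e]

theorem move_fix {B : ℕ} {st : Stage} (h : stageOK B st = true) {i : ℕ} (hi : 2 ^ B ≤ i) : move st i = i := by
  obtain ⟨-, h2⟩ := stageOK_spec h
  rw [move, if_neg, if_neg]
  · rintro ⟨hle, hm⟩
    have := h2 _ hm
    omega
  · intro hm
    have := h2 _ hm
    omega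

theorem testBit_stage {B : ℕ} {st : Stage} (h : stageOK B st = true) (X i : ℕ) :
    (stage st X).testBit i = X.testBit (move st i) := by
  obtain ⟨h1, -⟩ := stageOK_spec h
  change ((X ^^^ ((X >>> st.2 ^^^ X) &&& st.1)) ^^^ (((X >>> st.2 ^^^ X) &&& st.1) <<< st.2)).testBit i = _
  simp only [Nat.testBit_xor, Nat.testBit_and, Nat.testBit_shiftRight, Nat.testBit_shiftLeft, move]
  by_cases hi : st.1.testBit i = true
  · have h3 : ¬ (st.2 ≤ i ∧ st.1.testBit (i - st.2) = true) := fun ⟨hle, hm⟩ => by
      have := h1 _ hm
      rw [Nat.sub_add_cancel hle, hi] at this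
      exact Bool.noConfusion this
    rw [if_pos hi, hi, Nat.add_comm st.2 i]
    by_cases hle : st.2 ≤ i
    · have hm : st.1.testBit (i - st.2) = false := by simpa [hle] using h3
      simp [hm]
      cases X.testBit i <;> cases X.testBit (i + st.2) <;> rfl
    · simp [hle]
      cases X.testBit i <;> cases X.testBit (i + st.2) <;> rfl
  · rw [if_neg hi]
    rw [Bool.not_eq_true] at hi
    by_cases h3 : st.2 ≤ i ∧ st.1.testBit (i - st.2) = true
    · rw [if_pos h3, hi, h3.2, Nat.add_sub_cancel' h3.1]
      simp [h3.1]
    · rw [if_neg h3, hi]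
      by_cases hle : st.2 ≤ i
      · have hm : st.1.testBit (i - st.2) = false := by simpa [hle] using h3
        simp [hm]
      · simp [hle]

open scoped Classical in
/-- The permutation of a stage. -/
noncomputable def stagePerm (st : Stage) : Equiv.Perm ℕ :=
  if h : Function.Involutive (move st) then h.toPerm else 1

/-- The permutation of a network. -/
noncomputable def netPerm (L : List Stage) : Equiv.Perm ℕ := (L.map stagePerm).prod

theorem stagePerm_apply {B : ℕ} {st : Stage} (h : stageOK B st = true) (i : ℕ) : stagePerm st i = move st i := by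
  rw [stagePerm, dif_pos (show Function.Involutive (move st) from move_move h)]
  rfl

theorem testBit_run {B : ℕ} : ∀ {L : List Stage}, (∀ st ∈ L, stageOK B st = true) → ∀ X i : ℕ,
    (run L X).testBit i = X.testBit (netPerm L i)
  | [], _, X, i => by simp [run, netPerm]
  | st :: L, h, X, i => by
    show (run L (stage st X)).testBit i = _
    rw [testBit_run (fun s hs => h s (List.mem_cons_of_mem _ hs)), testBit_stage (h st List.mem_cons_self),
      ← stagePerm_apply (h st List.mem_cons_self)]
    rfl

theorem netPerm_fix {B : ℕ} : ∀ {L : List Stage}, (∀ st ∈ L, stageOK B st = true) → ∀ {i : ℕ}, 2 ^ B ≤ i →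
    netPerm L i = i
  | [], _, i, _ => rfl
  | st :: L, h, i, hi => by
    show stagePerm st (netPerm L i) = i
    rw [netPerm_fix (fun s hs => h s (List.mem_cons_of_mem _ hs)) hi, stagePerm_apply (h st List.mem_cons_self),
      move_fix (h st List.mem_cons_self) hi]

/-- Networks for the letters `0, ..., ng - 1`, all valid. -/
noncomputable def netsOK (B ng : ℕ) (net : ℕ → List Stage) : Bool :=
  forallFrom (fun x => (net x).all (stageOK B)) 0 ng

/-- The permutation of a word. -/
noncomputable def wordPerm (net : ℕ → List Stage) (w : List ℕ) : Equiv.Perm ℕ :=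
  (w.map fun x => netPerm (net x)).prod

/-- The valid networks: every letter gives valid stages. -/
structure Valid (B : ℕ) (net : ℕ → List Stage) : Prop where
  ok : ∀ x, ∀ st ∈ net x, stageOK B st = true

theorem Valid.of_check {B ng : ℕ} {net : ℕ → List Stage} (h : netsOK B ng net = true)
    (hbig : ∀ x, ng ≤ x → net x = []) : Valid B net where
  ok x := by
    by_cases hx : x < ng
    · exact fun st hst => List.all_eq_true.1 (forallFrom_elim h (Nat.zero_le x) (by omega)) st hst
    · rw [hbig x (by omega)]; simp

variable {B : ℕ} {net : ℕ → List Stage} (hV : Valid B net)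
include hV

theorem testBit_runWord : ∀ (w : List ℕ) (X i : ℕ), (runWord net w X).testBit i = X.testBit (wordPerm net w i)
  | [], X, i => rfl
  | x :: w, X, i => by
    show (runWord net w (run (net x) X)).testBit i = _
    rw [testBit_runWord w, testBit_run (hV.ok x)]
    rfl

theorem wordPerm_fix : ∀ (w : List ℕ) {i : ℕ}, 2 ^ B ≤ i → wordPerm net w i = i
  | [], i, _ => rfl
  | x :: w, i, hi => by
    show netPerm (net x) (wordPerm net w i) = i
    rw [wordPerm_fix w hi, netPerm_fix (hV.ok x) hi]

omit hV in
/-- The bit planes of `0, ..., 2 ^ k - 1`. -/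
noncomputable def plane (r : ℕ) : ℕ → ℕ :=
  Nat.rec 0 fun k P => cond (Nat.blt r k) (Nat.lor P (Nat.shiftLeft P (2 ^ k)))
    (cond (Nat.beq r k) (Nat.shiftLeft (2 ^ 2 ^ k - 1) (2 ^ k)) 0)

omit hV in
theorem testBit_plane (r : ℕ) : ∀ k i, (plane r k).testBit i = (decide (i < 2 ^ k) && decide (r < k) && i.testBit r)
  | 0, i => by show (0 : ℕ).testBit i = _; simp
  | k + 1, i => by
    show (cond (Nat.blt r k) _ _ : ℕ).testBit i = _
    have hp : (2 : ℕ) ^ (k + 1) = 2 ^ k + 2 ^ k := by ring
    have hsub : ∀ {i}, 2 ^ k ≤ i → i < 2 ^ (k + 1) → i - 2 ^ k < 2 ^ k := fun h1 h2 => by omega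
    rcases Nat.lt_trichotomy r k with hr | hr | hr
    · rw [show Nat.blt r k = true by simpa [Nat.blt_eq] using hr, cond_true]
      change (plane r k ||| plane r k <<< 2 ^ k).testBit i = _
      rw [Nat.testBit_or, Nat.testBit_shiftLeft, testBit_plane r k, testBit_plane r k]
      rcases Nat.lt_or_ge i (2 ^ k) with h1 | h1
      · simp [hr, h1, show i < 2 ^ (k + 1) by omega, show r < k + 1 by omega, show ¬ 2 ^ k ≤ i by omega]
      · rcases Nat.lt_or_ge i (2 ^ (k + 1)) with h2 | h2
        · have he : i.testBit r = (i - 2 ^ k).testBit r := by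
            conv_lhs => rw [← Nat.add_sub_cancel' h1]
            exact Nat.testBit_two_pow_add_gt hr _
          simp [hr, h1, h2, hsub h1 h2, show r < k + 1 by omega, show ¬ i < 2 ^ k by omega, he]
        · simp [h1, show ¬ i < 2 ^ (k + 1) by omega, show ¬ i - 2 ^ k < 2 ^ k by omega,
            show ¬ i < 2 ^ k by omega]
    · subst hr
      rw [show Nat.blt r r = false from Bool.eq_false_iff.2 (by simp [Nat.blt_eq]), cond_false,
        show Nat.beq r r = true from Nat.beq_refl r, cond_true]
      change ((2 ^ 2 ^ r - 1) <<< 2 ^ r).testBit i = _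
      rw [Nat.testBit_shiftLeft, Nat.testBit_two_pow_sub_one]
      rcases Nat.lt_or_ge i (2 ^ r) with h1 | h1
      · simp [Nat.testBit_lt_two_pow h1, show ¬ 2 ^ r ≤ i by omega]
      · rcases Nat.lt_or_ge i (2 ^ (r + 1)) with h2 | h2
        · have he : i.testBit r = true := by
            rw [← Nat.add_sub_cancel' h1, Nat.testBit_two_pow_add_eq, Nat.testBit_lt_two_pow (hsub h1 h2)]
            rfl
          simp [h1, h2, hsub h1 h2, he]
        · simp [show ¬ i < 2 ^ (r + 1) by omega, show ¬ i - 2 ^ r < 2 ^ r by omega]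
    · rw [show Nat.blt r k = false from Bool.eq_false_iff.2 (by simp [Nat.blt_eq]; omega), cond_false,
        show Nat.beq r k = false from Bool.eq_false_iff.2 (by simp; omega), cond_false]
      simp [show ¬ r < k + 1 by omega]

omit hV in
/-- A word fixes every point, by way of the planes `lo, ..., lo + len - 1`. -/
noncomputable def idOK (B : ℕ) (net : ℕ → List Stage) (w : List ℕ) : Bool :=
  forallFrom (fun r => Nat.beq (runWord net w (plane r B)) (plane r B)) 0 B

theorem wordPerm_eq_one {w : List ℕ} (h : idOK B net w = true) : wordPerm net w = 1 := by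
  refine Equiv.ext fun i => ?_
  rcases Nat.lt_or_ge i (2 ^ B) with hi | hi
  swap
  · exact wordPerm_fix hV w hi
  show wordPerm net w i = i
  have hj : wordPerm net w i < 2 ^ B := by
    by_contra hge
    have := wordPerm_fix hV w (Nat.not_lt.1 hge)
    rw [(wordPerm net w).injective this] at hge
    exact hge hi
  refine Nat.eq_of_testBit_eq fun r => ?_
  rcases Nat.lt_or_ge r B with hr | hr
  · have := Nat.eq_of_beq_eq_true (forallFrom_elim h (Nat.zero_le r) (by omega))
    have h' := congrArg (fun n => n.testBit i) this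
    simp only [testBit_runWord hV, testBit_plane, hr, hi, hj, decide_true, Bool.true_and] at h'
    exact h'
  · rw [Nat.testBit_lt_two_pow (lt_of_lt_of_le hi (Nat.pow_le_pow_right (by omega) hr)),
      Nat.testBit_lt_two_pow (lt_of_lt_of_le hj (Nat.pow_le_pow_right (by omega) hr))]

omit hV in
/-- A word sends point `q` to point `p`. -/
noncomputable def mapsOK (net : ℕ → List Stage) (w : List ℕ) (q p : ℕ) : Bool :=
  Nat.beq (runWord net w (Nat.shiftLeft 1 p)) (Nat.shiftLeft 1 q)

theorem wordPerm_maps {w : List ℕ} {q p : ℕ} (h : mapsOK net w q p = true) : wordPerm net w q = p := by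
  have h' := congrArg (fun n => n.testBit q) (Nat.eq_of_beq_eq_true h)
  simp only [testBit_runWord hV] at h'
  change ((1 <<< p : ℕ)).testBit _ = (1 <<< q : ℕ).testBit q at h'
  rw [Nat.one_shiftLeft, Nat.one_shiftLeft, Nat.testBit_two_pow, Nat.testBit_two_pow_self, decide_eq_true_eq] at h'
  exact h'.symm

end CfsgLib.Recog.BitPerm
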