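import Cfsg.Agent.Lib.Recog.BitPerm.Basic

set_option autoImplicit false

/-!
Orbits and orbit chains of bit-set permutations (owner: helper21).
-/

namespace CfsgLib.Recog.BitPerm

open CfsgLib.ThreeTrans.CosetIndex (forallFrom forallFrom_elim)

/-- One round: adjoin the preimages under each word. -/
noncomputable def spread (net : ℕ → List Stage) (gens : List (List ℕ)) (S : ℕ) : ℕ :=
  List.rec (motive := fun _ => ℕ → ℕ) (fun S => S) (fun w _ ih S => ih (Nat.lor S (runWord net w S))) gens S

/-- Several rounds from a point. -/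
noncomputable def orbitSet (net : ℕ → List Stage) (gens : List (List ℕ)) (b rounds : ℕ) : ℕ :=
  Nat.rec (Nat.shiftLeft 1 b) (fun _ S => spread net gens S) rounds

/-- The set bits below a bound. -/
noncomputable def bitCount (S : ℕ) (len : ℕ) : ℕ :=
  Nat.rec 0 (fun i c => Nat.add c (Nat.land (Nat.shiftRight S i) 1)) len

/-- Blocks of width `b`, cut out by the mask `m`. -/
noncomputable def blockSum (b m : ℕ) (S : ℕ) (k : ℕ) : ℕ :=
  Nat.rec 0 (fun j c => Nat.add c (bitCount (Nat.land (Nat.shiftRight S (b * j)) m) b)) k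

/-- The set bits below `256 * k`, block by block. -/
noncomputable def bitCountBlocks (S : ℕ) (k : ℕ) : ℕ := blockSum 256 (2 ^ 256 - 1) S k

theorem bitCount_eq (S : ℕ) : ∀ len, bitCount S len = ((Finset.range len).filter fun i => S.testBit i = true).card
  | 0 => by simp [bitCount]
  | len + 1 => by
    show bitCount S len + ((S >>> len) &&& 1) = _
    rw [bitCount_eq S len, Finset.range_add_one, Finset.filter_insert, Nat.and_one_is_mod]
    cases h : S.testBit len with
    | true =>
      rw [if_pos rfl, Finset.card_insert_of_notMem (by simp)]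
      have : (S >>> len) % 2 = 1 := by
        rw [Nat.shiftRight_eq_div_pow]
        simpa [Nat.testBit_eq_decide_div_mod_eq] using h
      omega
    | false =>
      rw [if_neg (by simp)]
      have : (S >>> len) % 2 = 0 := by
        rw [Nat.shiftRight_eq_div_pow]
        have : ¬ S / 2 ^ len % 2 = 1 := by simpa [Nat.testBit_eq_decide_div_mod_eq] using h
        omega
      omega

theorem mask_bit (n j : ℕ) : (2 ^ n - 1 : ℕ).testBit j = decide (j < n) := Nat.testBit_two_pow_sub_one n j

theorem blockSum_eq {b m : ℕ} (hm : ∀ j, m.testBit j = decide (j < b)) (S : ℕ) :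
    ∀ k, blockSum b m S k = ((Finset.range (b * k)).filter fun i => S.testBit i = true).card
  | 0 => by simp [blockSum]
  | k + 1 => by
    show blockSum b m S k + bitCount ((S >>> (b * k)) &&& m) b = _
    rw [blockSum_eq hm S k, bitCount_eq, Nat.mul_succ]
    generalize b * k = a
    have e : (Finset.range (a + b)).filter (fun i => S.testBit i = true) =
        (Finset.range a).filter (fun i => S.testBit i = true) ∪
          (((Finset.range b).filter fun i => ((S >>> a) &&& m).testBit i = true).map (addLeftEmbedding a)) := by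
      ext i
      simp only [Finset.mem_union, Finset.mem_filter, Finset.mem_range, Finset.mem_map, addLeftEmbedding_apply,
        Nat.testBit_and, Nat.testBit_shiftRight, hm, Bool.and_eq_true, decide_eq_true_eq]
      constructor
      · rintro ⟨h1, h2⟩
        rcases Nat.lt_or_ge i a with h3 | h3
        · exact Or.inl ⟨h3, h2⟩
        · exact Or.inr ⟨i - a, ⟨by omega, by rwa [Nat.add_sub_cancel' h3], by omega⟩, by omega⟩
      · rintro (⟨h1, h2⟩ | ⟨j, ⟨hj, h2, -⟩, rfl⟩)
        · exact ⟨by omega, h2⟩
        · exact ⟨by omega, h2⟩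
    rw [e, Finset.card_union_of_disjoint, Finset.card_map]
    rw [Finset.disjoint_left]
    intro i hi hi'
    simp only [Finset.mem_filter, Finset.mem_range] at hi
    obtain ⟨j, -, rfl⟩ := Finset.mem_map.1 hi'
    simp only [addLeftEmbedding_apply] at hi
    omega

theorem bitCountBlocks_eq (S k : ℕ) :
    bitCountBlocks S k = ((Finset.range (256 * k)).filter fun i => S.testBit i = true).card :=
  blockSum_eq (mask_bit 256) S k

variable {B : ℕ} {net : ℕ → List Stage} (hV : Valid B net)
include hV

/-- Every point of a spread set is reached by the words. -/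
theorem spread_sub {K : Subgroup (Equiv.Perm ℕ)} {b : ℕ} : ∀ {gens : List (List ℕ)}, (∀ w ∈ gens, wordPerm net w ∈ K) →
    ∀ {S : ℕ}, (∀ i, S.testBit i = true → ∃ g ∈ K, g b = i) →
      ∀ i, (spread net gens S).testBit i = true → ∃ g ∈ K, g b = i
  | [], _, S, hS => hS
  | w :: gens, hK, S, hS => by
    intro i hi
    refine spread_sub (fun v hv => hK v (List.mem_cons_of_mem _ hv)) (S := S ||| runWord net w S) ?_ i hi
    intro j hj
    rw [Nat.testBit_or, Bool.or_eq_true, testBit_runWord hV] at hj
    rcases hj with hj | hj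
    · exact hS j hj
    · obtain ⟨g, hg, hgj⟩ := hS _ hj
      refine ⟨(wordPerm net w)⁻¹ * g, mul_mem (inv_mem (hK w List.mem_cons_self)) hg, ?_⟩
      rw [Equiv.Perm.mul_apply, hgj, Equiv.Perm.inv_eq_iff_eq]

theorem orbitSet_sub {K : Subgroup (Equiv.Perm ℕ)} {b : ℕ} {gens : List (List ℕ)}
    (hK : ∀ w ∈ gens, wordPerm net w ∈ K) :
    ∀ rounds i, (orbitSet net gens b rounds).testBit i = true → ∃ g ∈ K, g b = i
  | 0, i, hi => by
    change (1 <<< b : ℕ).testBit i = true at hi
    rw [Nat.one_shiftLeft, Nat.testBit_two_pow, decide_eq_true_eq] at hi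
    exact ⟨1, one_mem _, hi⟩
  | r + 1, i, hi => spread_sub hV hK (orbitSet_sub hK r) i hi

omit hV in
/-- A set kept by every word. -/
noncomputable def closedOK (net : ℕ → List Stage) (gens : List (List ℕ)) (S : ℕ) : Bool :=
  gens.all fun w => Nat.beq (runWord net w S) S

theorem closed_bits {gens : List (List ℕ)} {S : ℕ} (h : closedOK net gens S = true) {g : Equiv.Perm ℕ}
    (hg : g ∈ Subgroup.closure {p | ∃ w ∈ gens, p = wordPerm net w}) : ∀ i, S.testBit (g i) = S.testBit i := by
  induction hg using Subgroup.closure_induction with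
  | mem p hp =>
    obtain ⟨w, hw, rfl⟩ := hp
    intro i
    rw [← testBit_runWord hV, Nat.eq_of_beq_eq_true (List.all_eq_true.1 h w hw)]
  | one => exact fun i => rfl
  | mul g g' _ _ i1 i2 => intro i; rw [Equiv.Perm.mul_apply, i1, i2]
  | inv g _ i1 => intro i; rw [← i1 (g⁻¹ i)]; simp

omit hV in
/-- A level: base point, words fixing the earlier ones, rounds, orbit size. -/
structure Level where
  /-- base point -/
  pt : ℕ
  /-- words -/
  gens : List (List ℕ)
  /-- rounds -/
  rounds : ℕ
  /-- size -/
  size : ℕ

omit hV in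
/-- One level over a prefix. -/
noncomputable def levelOK (net : ℕ → List Stage) (blocks : ℕ) (pre : List ℕ) (l : Level) : Bool :=
  (pre.all fun p => l.gens.all fun w => mapsOK net w p p) &&
    Nat.ble l.size (bitCountBlocks (orbitSet net l.gens l.pt l.rounds) blocks)

omit hV in
/-- All levels. -/
noncomputable def chainOK (net : ℕ → List Stage) (blocks : ℕ) : List ℕ → List Level → Bool
  | _, [] => true
  | pre, l :: ls => levelOK net blocks pre l && chainOK net blocks (pre ++ [l.pt]) ls

omit hV in
/-- The product of the orbit sizes. -/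
def total : List Level → ℕ
  | [] => 1
  | l :: ls => l.size * total ls

variable {G : Type*} [Group G] [Finite G] (φ : G →* Equiv.Perm ℕ)

omit hV in
/-- The elements fixing a list of points. -/
def fixSub (pre : List ℕ) : Subgroup G where
  carrier := {g | ∀ c ∈ pre, φ g c = c}
  one_mem' := fun c _ => by rw [map_one]; rfl
  mul_mem' := fun {g g'} hg hg' c hc => by rw [map_mul, Equiv.Perm.mul_apply, hg' c hc, hg c hc]
  inv_mem' := fun {g} hg c hc => by rw [map_inv, Equiv.Perm.inv_eq_iff_eq]; exact (hg c hc).symm

/-- A valid chain bounds the group from below. -/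
theorem total_mul_ker_le {blocks : ℕ} : ∀ (ls : List Level) (pre : List ℕ),
    (∀ l ∈ ls, ∀ w ∈ l.gens, wordPerm net w ∈ φ.range) → chainOK net blocks pre ls = true →
    total ls * Nat.card φ.ker ≤ Nat.card (fixSub φ pre)
  | [], pre, _, _ => by
    rw [total, one_mul]
    exact Nat.card_le_card_of_injective
      (fun g => (⟨g.1, fun c _ => by rw [MonoidHom.mem_ker.1 g.2]; rfl⟩ : fixSub φ pre))
      fun _ _ e => Subtype.ext (congrArg Subtype.val e :)
  | l :: ls, pre, hφ, h => by
    classical
    simp only [chainOK, levelOK, Bool.and_eq_true, Nat.ble_eq, List.all_eq_true] at h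
    obtain ⟨⟨hfix, hsz⟩, hrest⟩ := h
    have ih := total_mul_ker_le ls (pre ++ [l.pt]) (fun m hm => hφ m (List.mem_cons_of_mem _ hm)) hrest
    set S := orbitSet net l.gens l.pt l.rounds
    set P := (Finset.range (256 * blocks)).filter fun i => S.testBit i = true
    have hex : ∀ c : P, ∃ g ∈ fixSub φ pre, φ g l.pt = c := fun c => by
      obtain ⟨g, ⟨g', hg', rfl⟩, hgc⟩ := orbitSet_sub hV (K := (fixSub φ pre).map φ) (fun w hw => by
        obtain ⟨g, hg⟩ := hφ l List.mem_cons_self w hw
        exact ⟨g, fun p hp => by rw [hg]; exact wordPerm_maps hV (hfix p hp w hw), hg⟩)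
        l.rounds c (Finset.mem_filter.1 c.2).2
      exact ⟨g', hg', hgc⟩
    choose g hg hgc using hex
    let f : P × fixSub φ (pre ++ [l.pt]) → fixSub φ pre := fun p =>
      ⟨g p.1 * p.2.1, mul_mem (hg p.1) fun c hc => p.2.2 c (List.mem_append_left _ hc)⟩
    have hf : Function.Injective f := by
      intro p q hpq
      have e := congrArg Subtype.val hpq
      have e' := congrArg (fun s => φ s l.pt) e
      simp only [f, map_mul, Equiv.Perm.mul_apply, p.2.2 l.pt (by simp), q.2.2 l.pt (by simp), hgc] at e'
      have e1 : p.1 = q.1 := Subtype.ext e'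
      simp only [f, e1] at e
      exact Prod.ext e1 (Subtype.ext (mul_left_cancel e))
    calc total (l :: ls) * Nat.card φ.ker = l.size * (total ls * Nat.card φ.ker) := by rw [total, mul_assoc]
      _ ≤ Nat.card P * Nat.card (fixSub φ (pre ++ [l.pt])) := by
        refine Nat.mul_le_mul (hsz.trans (le_of_eq ?_)) ih
        rw [bitCountBlocks_eq, Nat.card_eq_fintype_card, Fintype.card_coe]
      _ = Nat.card (P × fixSub φ (pre ++ [l.pt])) := (Nat.card_prod _ _).symm
      _ ≤ _ := Nat.card_le_card_of_injective f hf

/-- The whole group: at least the total times the kernel. -/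
theorem total_mul_ker_le_card {blocks : ℕ} {ls : List Level}
    (hφ : ∀ l ∈ ls, ∀ w ∈ l.gens, wordPerm net w ∈ φ.range) (h : chainOK net blocks [] ls = true) :
    total ls * Nat.card φ.ker ≤ Nat.card G :=
  (total_mul_ker_le hV φ ls [] hφ h).trans (Nat.card_le_card_of_injective _ Subtype.val_injective)

end CfsgLib.Recog.BitPerm
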